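import Mathlib.GroupTheory.GroupAction.Quotient
import Mathlib.GroupTheory.GroupAction.FixedPoints
import Mathlib.GroupTheory.GroupAction.Primitive
import Mathlib.GroupTheory.Index

/-!
Counting lemmas for derangements of a finite transitive group, and basic facts on the subgroup
generated by the derangements.
-/

set_option autoImplicit false

namespace CfsgLib.Derange

open MulAction

variable (G Ω : Type*) [Group G] [MulAction G Ω]

/-- The set of derangements. -/
abbrev derSet : Set G := {g : G | ∀ ω : Ω, g • ω ≠ ω}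

/-- The subgroup generated by the derangements. -/
abbrev derSubgroup : Subgroup G := Subgroup.closure (derSet G Ω)

instance derSubgroup_normal : (derSubgroup G Ω).Normal := by
  refine Subgroup.normalClosure_normal (s := derSet G Ω) |> fun h => ?_
  have heq : Subgroup.normalClosure (derSet G Ω) = derSubgroup G Ω := by
    apply le_antisymm
    · unfold Subgroup.normalClosure derSubgroup
      apply Subgroup.closure_mono
      intro x hx
      obtain ⟨y, hy, hxy⟩ := Group.mem_conjugatesOfSet_iff.1 hx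
      obtain ⟨c, rfl⟩ := isConj_iff.1 hxy
      intro ω hω
      apply hy (c⁻¹ • ω)
      rw [eq_inv_smul_iff, smul_smul, smul_smul]
      exact hω
    · exact Subgroup.closure_le_normalClosure
  exact heq ▸ h

variable {G Ω}

lemma exists_fixed_of_not_mem {g : G} (hg : g ∉ derSubgroup G Ω) : ∃ ω : Ω, g • ω = ω := by
  by_contra h
  push Not at h
  exact hg (Subgroup.subset_closure h)

lemma sum_fixedBy_eq (H : Type*) [Group H] [Fintype H] [MulAction H Ω] [Finite Ω] :
    ∑ h : H, Nat.card (fixedBy Ω h) = Nat.card (orbitRel.Quotient H Ω) * Nat.card H := by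
  classical
  haveI := Fintype.ofFinite Ω
  simp only [Nat.card_eq_fintype_card]
  exact sum_card_fixedBy_eq_card_orbits_mul_card_group H Ω

lemma card_quotient_of_pretransitive [IsPretransitive G Ω] [Nonempty Ω] :
    Nat.card (orbitRel.Quotient G Ω) = 1 := by
  rw [Nat.card_eq_one_iff_unique]
  refine ⟨(pretransitive_iff_subsingleton_quotient G Ω).1 inferInstance, ?_⟩
  exact ⟨Quotient.mk'' (Classical.arbitrary Ω)⟩

lemma card_fixedBy_prod (g : G) :
    Nat.card (fixedBy (Ω × Ω) g) = Nat.card (fixedBy Ω g) ^ 2 := by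
  rw [sq, ← Nat.card_prod]
  refine Nat.card_congr
    { toFun := fun x => (⟨x.1.1, congrArg Prod.fst x.2⟩, ⟨x.1.2, congrArg Prod.snd x.2⟩)
      invFun := fun x => ⟨(x.1.1, x.2.1), Prod.ext x.1.2 x.2.2⟩
      left_inv := fun x => rfl
      right_inv := fun x => rfl }

lemma pretransitive_of_card_quotient [Nonempty Ω] [Finite Ω]
    (h : Nat.card (orbitRel.Quotient G Ω) ≤ 1) : IsPretransitive G Ω :=
  (pretransitive_iff_subsingleton_quotient G Ω).2 (Finite.card_le_one_iff_subsingleton.1 h)

lemma one_le_fixedBy_of_not_mem [Finite Ω] {g : G} (hg : g ∉ derSubgroup G Ω) :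
    1 ≤ Nat.card (fixedBy Ω g) := by
  obtain ⟨ω, hω⟩ := exists_fixed_of_not_mem hg
  haveI : Nonempty (fixedBy Ω g) := ⟨⟨ω, hω⟩⟩
  exact Nat.card_pos

open Classical in
/-- Main counting fact: the derangement subgroup is transitive, and every element outside it
fixes exactly one point. -/
theorem derSubgroup_transitive_and_fix [Finite G] [Finite Ω] [IsPretransitive G Ω] [Nonempty Ω] :
    IsPretransitive ↥(derSubgroup G Ω) Ω ∧
      ∀ g : G, g ∉ derSubgroup G Ω → Nat.card (fixedBy Ω g) = 1 := by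
  haveI := Fintype.ofFinite G
  set D := derSubgroup G Ω
  set s : Finset G := Finset.univ.filter (· ∈ D)
  set t : Finset G := Finset.univ.filter (· ∉ D)
  have hsplit : ∑ g : G, Nat.card (fixedBy Ω g) =
      ∑ g ∈ s, Nat.card (fixedBy Ω g) + ∑ g ∈ t, Nat.card (fixedBy Ω g) :=
    (Finset.sum_filter_add_sum_filter_not _ _ _).symm
  have hcard : Fintype.card G = s.card + t.card :=
    (Finset.card_filter_add_card_filter_not _).symm
  have hs : ∑ g ∈ s, Nat.card (fixedBy Ω g) = Nat.card (orbitRel.Quotient ↥D Ω) * Nat.card ↥D := by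
    rw [← sum_fixedBy_eq (Ω := Ω) ↥D]
    rw [Finset.sum_subtype s (p := (· ∈ D)) (by intro x; simp [s]) (fun g => Nat.card (fixedBy Ω g))]
    rfl
  have hsc : s.card = Nat.card ↥D := by
    rw [Nat.card_eq_fintype_card, Fintype.card_subtype]
  have htot : ∑ g : G, Nat.card (fixedBy Ω g) = Fintype.card G := by
    rw [sum_fixedBy_eq (Ω := Ω) G, card_quotient_of_pretransitive, one_mul,
      Nat.card_eq_fintype_card]
  have hpos : 1 ≤ Nat.card (orbitRel.Quotient ↥D Ω) := by
    haveI : Nonempty (orbitRel.Quotient ↥D Ω) := ⟨Quotient.mk'' (Classical.arbitrary Ω)⟩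
    exact Nat.card_pos
  have ht : t.card ≤ ∑ g ∈ t, Nat.card (fixedBy Ω g) := by
    rw [Finset.card_eq_sum_ones]
    exact Finset.sum_le_sum fun g hg => one_le_fixedBy_of_not_mem (Finset.mem_filter.1 hg).2
  have hDpos : 1 ≤ Nat.card ↥D := Nat.card_pos
  have hle : Nat.card (orbitRel.Quotient ↥D Ω) * Nat.card ↥D ≤ 1 * Nat.card ↥D := by omega
  have hk : Nat.card (orbitRel.Quotient ↥D Ω) = 1 :=
    le_antisymm (Nat.le_of_mul_le_mul_right hle hDpos) hpos
  refine ⟨pretransitive_of_card_quotient hk.le, fun g hg => ?_⟩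
  have heq : ∑ g ∈ t, Nat.card (fixedBy Ω g) = ∑ _g ∈ t, 1 := by
    rw [← Finset.card_eq_sum_ones]
    rw [hk, one_mul] at hs
    omega
  have hall := (Finset.sum_eq_sum_iff_of_le (fun g hg =>
    one_le_fixedBy_of_not_mem (Finset.mem_filter.1 hg).2)).1 heq.symm
  exact (hall g (Finset.mem_filter.2 ⟨Finset.mem_univ g, hg⟩)).symm

lemma eq_of_fixed_of_not_mem [Finite G] [Finite Ω] [IsPretransitive G Ω] {g : G}
    (hg : g ∉ derSubgroup G Ω) {a b : Ω} (ha : g • a = a) (hb : g • b = b) : a = b := by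
  haveI : Nonempty Ω := ⟨a⟩
  have h := derSubgroup_transitive_and_fix.2 g hg
  rw [Nat.card_eq_one_iff_unique] at h
  exact congrArg Subtype.val (@Subsingleton.elim _ h.1 (⟨a, ha⟩ : fixedBy Ω g) ⟨b, hb⟩)

open Classical in
theorem rank_formula [Finite G] [Finite Ω] [IsPretransitive G Ω] [Nonempty Ω] :
    Nat.card (orbitRel.Quotient ↥(derSubgroup G Ω) (Ω × Ω)) - 1 =
      (Nat.card (orbitRel.Quotient G (Ω × Ω)) - 1) * (derSubgroup G Ω).index := by
  haveI := Fintype.ofFinite G
  set D := derSubgroup G Ω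
  set s : Finset G := Finset.univ.filter (· ∈ D)
  set t : Finset G := Finset.univ.filter (· ∉ D)
  have hsplit : ∑ g : G, Nat.card (fixedBy (Ω × Ω) g) =
      ∑ g ∈ s, Nat.card (fixedBy (Ω × Ω) g) + ∑ g ∈ t, Nat.card (fixedBy (Ω × Ω) g) :=
    (Finset.sum_filter_add_sum_filter_not _ _ _).symm
  have hcard : Fintype.card G = s.card + t.card :=
    (Finset.card_filter_add_card_filter_not _).symm
  have hs : ∑ g ∈ s, Nat.card (fixedBy (Ω × Ω) g) =
      Nat.card (orbitRel.Quotient ↥D (Ω × Ω)) * Nat.card ↥D := by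
    rw [← sum_fixedBy_eq (Ω := Ω × Ω) ↥D]
    rw [Finset.sum_subtype s (p := (· ∈ D)) (by intro x; simp [s]) (fun g => Nat.card (fixedBy (Ω × Ω) g))]
    rfl
  have hsc : s.card = Nat.card ↥D := by
    rw [Nat.card_eq_fintype_card, Fintype.card_subtype]
  have htot : ∑ g : G, Nat.card (fixedBy (Ω × Ω) g) =
      Nat.card (orbitRel.Quotient G (Ω × Ω)) * Nat.card G := sum_fixedBy_eq (Ω := Ω × Ω) G
  have ht : ∑ g ∈ t, Nat.card (fixedBy (Ω × Ω) g) = t.card := by
    rw [Finset.card_eq_sum_ones]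
    exact Finset.sum_congr rfl fun g hg => by
      rw [card_fixedBy_prod, derSubgroup_transitive_and_fix.2 g (Finset.mem_filter.1 hg).2, one_pow]
  have hD : Nat.card ↥D * D.index = Nat.card G := Subgroup.card_mul_index D
  have hN : Nat.card G = Fintype.card G := Nat.card_eq_fintype_card
  have hrG : 1 ≤ Nat.card (orbitRel.Quotient G (Ω × Ω)) := by
    haveI : Nonempty (orbitRel.Quotient G (Ω × Ω)) :=
      ⟨Quotient.mk'' (Classical.arbitrary Ω, Classical.arbitrary Ω)⟩
    exact Nat.card_pos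
  have hrD : 1 ≤ Nat.card (orbitRel.Quotient ↥D (Ω × Ω)) := by
    haveI : Nonempty (orbitRel.Quotient ↥D (Ω × Ω)) :=
      ⟨Quotient.mk'' (Classical.arbitrary Ω, Classical.arbitrary Ω)⟩
    exact Nat.card_pos
  obtain ⟨u, hu⟩ := Nat.exists_eq_add_of_le hrG
  obtain ⟨v, hv⟩ := Nat.exists_eq_add_of_le hrD
  rw [hu, hv, Nat.add_sub_cancel_left, Nat.add_sub_cancel_left]
  have key : v * Nat.card ↥D = u * Nat.card G := by
    rw [hu, hsplit, hs, ht, hv] at htot
    rw [add_mul, add_mul, one_mul, one_mul] at htot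
    omega
  rw [← hD] at key
  exact Nat.eq_of_mul_eq_mul_right Nat.card_pos
    (key.trans (by rw [mul_assoc u, mul_comm D.index (Nat.card ↥D)]))

end CfsgLib.Derange
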